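import Groth.Agent.L14.Chev.Cell.BruhatCover
import Groth.Agent.L14.Chev.Cell.NormWeyl
import Groth.Agent.L14.Chev.Cell.Generated
import Groth.Agent.L14.Chev.Cell.InnerTrivial
import Mathlib.LinearAlgebra.RootSystem.Finite.Nondegenerate

/-!
# Normal subgroups of the points of a split group over an algebraically closed field
-/

set_option autoImplicit false
universe u

open CategoryTheory CategoryTheory.Limits AlgebraicGeometry MonoidalCategory CartesianMonoidalCategory MonObj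
open Groth.L14.RankOne Groth.L25 Groth.L14.Chart Groth.L14.Chev Groth.L14.Chev.Cell

set_option backward.isDefEq.respectTransparency.types false
set_option linter.style.haveILetI false
set_option linter.unusedSectionVars false
set_option maxHeartbeats 1000000

noncomputable section

namespace Groth.L14.AlmostSimple

variable {S : Scheme.{u}} {G : Over S} [GrpObj G] (D : Red.SplitRed G)
  {R : Type u} [CommRing R] (j : Spec (CommRingCat.of R) ⟶ S) [IsOpenImmersion j]
  (K : Type u) [Field K] [IsAlgClosed K] [Algebra R K]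

/-- The torus points killed by all the roots. -/
def Cent : Set (Sp j K ⟶ G) :=
  {g | ∃ χ : Multiplicative D.M →* K, (∀ c, χ (Multiplicative.ofAdd (D.P.root c)) = 1) ∧ g = tpt D j χ ≫ D.i}

/-- The torus points as a subgroup. -/
def torPts : Subgroup (Sp j K ⟶ G) where
  carrier := {g | ∃ χ : Multiplicative D.M →* K, g = tpt D j χ ≫ D.i}
  one_mem' := ⟨1, by haveI := isMonHom_i (D := D); rw [tpt_one, MonObj.one_comp]⟩
  mul_mem' := by
    rintro _ _ ⟨χ, rfl⟩ ⟨ψ, rfl⟩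
    haveI := isMonHom_i (D := D)
    exact ⟨χ * ψ, by rw [tpt_mul, MonObj.mul_comp]⟩
  inv_mem' := by
    rintro _ ⟨χ, rfl⟩
    exact ⟨χ.comp invMonoidHom, (tpt_inv χ).symm⟩

variable {D j K}

theorem tpt_comm (χ ψ : Multiplicative D.M →* K) :
    (tpt D j χ ≫ D.i) * (tpt D j ψ ≫ D.i) = (tpt D j ψ ≫ D.i) * (tpt D j χ ≫ D.i) := by
  haveI := isMonHom_i (D := D)
  rw [← MonObj.mul_comp, ← MonObj.mul_comp, ← tpt_mul, ← tpt_mul, mul_comm]

theorem comm_root (χ : Multiplicative D.M →* K) (c : D.idx) (x : K) :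
    (tpt D j χ ≫ D.i) * (gp j x ≫ D.u c) * (tpt D j χ ≫ D.i)⁻¹ * (gp j x ≫ D.u c)⁻¹ =
      gp j ((χ (Multiplicative.ofAdd (D.P.root c)) - 1) * x) ≫ D.u c := by
  haveI : ∀ c, IsMonHom (D.u c) := fun c => (D.rootHom c).1
  rw [conj_root j D.rootHom, show (gp j x ≫ D.u c)⁻¹ = gp j (-x) ≫ D.u c by rw [gp_neg, GrpObj.inv_comp],
    ← MonObj.mul_comp, ← gp_add]
  congr 2
  ring

theorem cent_commute {z : Sp j K ⟶ G} (hz : z ∈ Cent D j K) :
    (∀ (c : D.idx) (x : K), z * (gp j x ≫ D.u c) = (gp j x ≫ D.u c) * z) ∧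
      ∀ χ : Multiplicative D.M →* K, z * (tpt D j χ ≫ D.i) = (tpt D j χ ≫ D.i) * z := by
  obtain ⟨ψ, hψ, rfl⟩ := hz
  refine ⟨fun c x => ?_, fun χ => tpt_comm ψ χ⟩
  haveI : ∀ c, IsMonHom (D.u c) := fun c => (D.rootHom c).1
  have h := comm_root (j := j) ψ c x
  rw [hψ c, sub_self, zero_mul, gp_zero, MonObj.one_comp, mul_inv_eq_one, mul_inv_eq_iff_eq_mul] at h
  exact h

/-- A subgroup containing the commutators of the torus with one non-trivial root point contains the root group. -/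
theorem full_of_comm {H : Subgroup (Sp j K ⟶ G)} {c : D.idx} {x : K} (hx : x ≠ 0)
    (h : ∀ χ : Multiplicative D.M →* K,
      (tpt D j χ ≫ D.i) * (gp j x ≫ D.u c) * (tpt D j χ ≫ D.i)⁻¹ * (gp j x ≫ D.u c)⁻¹ ∈ H) (y : K) :
    gp j y ≫ D.u c ∈ H := by
  classical
  haveI : ∀ c, IsMonHom (D.u c) := fun c => (D.rootHom c).1
  have hne : ∀ y : K, y ≠ -x → gp j y ≫ D.u c ∈ H := fun y hy => by
    obtain ⟨χ, hχ⟩ := exists_char_eq (D := D) c (w := y / x + 1) (fun e => hy (by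
      have e' : y / x = -1 := eq_neg_of_add_eq_zero_left e
      rw [div_eq_iff hx] at e'
      rw [e']; ring))
    have := h χ
    rw [comm_root, hχ, add_sub_cancel_right, div_mul_cancel₀ _ hx] at this
    exact this
  obtain ⟨y₁, hy₁⟩ := Infinite.exists_notMem_finset ({-x, y + x} : Finset K)
  simp only [Finset.mem_insert, Finset.mem_singleton, not_or] at hy₁
  have := mul_mem (hne y₁ hy₁.1) (hne (y - y₁) fun e => hy₁.2 (by linear_combination -e))
  rwa [← MonObj.mul_comp (gp j y₁) (gp j (y - y₁)) (D.u c), ← gp_add, add_sub_cancel] at this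

/-- A normal subgroup containing a non-trivial point of a root group contains the root group. -/
theorem full_of_mem {H : Subgroup (Sp j K ⟶ G)} [H.Normal] {c : D.idx} {x : K} (hx : x ≠ 0)
    (h : gp j x ≫ D.u c ∈ H) (y : K) : gp j y ≫ D.u c ∈ H :=
  full_of_comm hx (fun _ => mul_mem (Subgroup.Normal.conj_mem ‹_› _ h _) (inv_mem h)) y

theorem exists_ne_one_char (c : D.idx) : ∃ χ : Multiplicative D.M →* K,
    χ (Multiplicative.ofAdd (D.P.root c)) ≠ 1 := by
  classical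
  obtain ⟨w, hw⟩ := Infinite.exists_notMem_finset ({0, 1} : Finset K)
  simp only [Finset.mem_insert, Finset.mem_singleton, not_or] at hw
  obtain ⟨χ, hχ⟩ := exists_char_eq (D := D) c hw.1
  exact ⟨χ, hχ ▸ hw.2⟩

variable {b : D.P.Base}

/-- A normal subgroup containing a point of the Borel group which is not killed by all roots contains a root group. -/
theorem exists_full_of_borel {lv : D.idx → ℕ} (hF : Filt D (RedSub.posRoots D.P b) lv) {H : Subgroup (Sp j K ⟶ G)}
    [H.Normal] {σ : Multiplicative D.M →* K} {u : Sp j K ⟶ G}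
    (hu : u ∈ gen j K D.u (RedSub.posRoots D.P b) lv 0) (hH : (tpt D j σ ≫ D.i) * u ∈ H)
    (hσ : u ≠ 1 ∨ ∃ c, σ (Multiplicative.ofAdd (D.P.root c)) ≠ 1) : ∃ c, ∀ y : K, gp j y ≫ D.u c ∈ H := by
  classical
  haveI : ∀ c, IsMonHom (D.u c) := fun c => (D.rootHom c).1
  haveI : Finite D.idx := Finite.of_fintype _
  by_cases hu1 : u = 1
  · obtain ⟨c, hc⟩ := hσ.resolve_left (not_not.2 hu1)
    rw [hu1, _root_.mul_one] at hH
    refine ⟨c, full_of_mem (x := σ (Multiplicative.ofAdd (D.P.root c)) - 1) (sub_ne_zero.2 hc) ?_⟩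
    have h2 := mul_mem hH (Subgroup.Normal.conj_mem ‹_› _ (inv_mem hH) (gp j (1 : K) ≫ D.u c))
    rw [← _root_.mul_one (σ (Multiplicative.ofAdd (D.P.root c)) - 1), ← comm_root]
    simpa only [_root_.mul_assoc] using h2
  obtain ⟨m, epos, hpos⟩ := exists_enum (D := D) (RedSub.posRoots D.P b)
  obtain ⟨lam, hl⟩ := hasLam b
  obtain ⟨z, hz⟩ := (mem_gen_iff D.rootHom hF (nodup_list hpos) (mem_list_iff hpos)).1 hu
  obtain ⟨c, hc, hzc⟩ : ∃ c ∈ List.ofFn epos, z c ≠ 0 := by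
    by_contra! hall
    exact hu1 (by rw [← hz, rootProd_eq_one j hall])
  obtain ⟨τ, hτ⟩ := exists_ne_one_char (K := K) c
  let T := tpt D j τ ≫ D.i
  have hvH : conjT D j τ u * u⁻¹ ∈ H := by
    have h1 := Subgroup.Normal.conj_mem ‹_› _
      (mul_mem (Subgroup.Normal.conj_mem ‹_› _ hH T) (inv_mem hH)) (tpt D j σ ≫ D.i)⁻¹
    have e : (tpt D j σ ≫ D.i)⁻¹ * (T * ((tpt D j σ ≫ D.i) * u) * T⁻¹ * ((tpt D j σ ≫ D.i) * u)⁻¹) *
        ((tpt D j σ ≫ D.i)⁻¹)⁻¹ = conjT D j τ u * u⁻¹ := by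
      have hc' : T * (tpt D j σ ≫ D.i) = (tpt D j σ ≫ D.i) * T := tpt_comm τ σ
      show _ = T * u * T⁻¹ * u⁻¹
      generalize tpt D j σ ≫ D.i = A at hc' ⊢
      calc A⁻¹ * (T * (A * u) * T⁻¹ * (A * u)⁻¹) * A⁻¹⁻¹ = A⁻¹ * (T * A) * u * T⁻¹ * u⁻¹ := by group
        _ = _ := by rw [hc']; group
    exact e ▸ h1
  have hvgen : conjT D j τ u * u⁻¹ ∈ gen j K D.u (RedSub.posRoots D.P b) lv 0 :=
    mul_mem (conjT_mem_gen τ hu) (inv_mem hu)
  have hv1 : conjT D j τ u * u⁻¹ ≠ 1 := fun e => by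
    rw [mul_inv_eq_one, conjT, ← hz, conj_rootProd j D.rootHom] at e
    have h2 := rootProd_injective_of_pos D.rootHom (mu := lam) (nodup_list hpos)
      (fun d hd => (hl d).1 ((mem_list_iff hpos d).1 hd)) e c hc
    exact hτ (mul_eq_right₀ hzc |>.1 h2)
  obtain ⟨c', -, hc'⟩ := exists_root_mem (H := H ⊔ torPts D j K) b hF (nodup_list hpos) (mem_list_iff hpos)
    (fun χ => Subgroup.mem_sup_right ⟨χ, rfl⟩) (Subgroup.mem_sup_left hvH)
    (fun d hd => (hl d).1 hd) hvgen hv1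
  refine ⟨c', full_of_comm (x := (1 : K)) one_ne_zero fun χ => ?_⟩
  obtain ⟨h, hh, t, ⟨ψ, rfl⟩, e⟩ := Subgroup.mem_sup_of_normal_left.1 (hc' 1)
  rw [← e]
  have hcm := tpt_comm (j := j) χ ψ
  have h3 := mul_mem (Subgroup.Normal.conj_mem ‹_› _ hh (tpt D j χ ≫ D.i)) (inv_mem hh)
  generalize tpt D j χ ≫ D.i = A at hcm h3 ⊢
  generalize tpt D j ψ ≫ D.i = B at hcm ⊢
  rwa [show A * (h * B) * A⁻¹ * (h * B)⁻¹ = A * h * A⁻¹ * h⁻¹ from by
    calc A * (h * B) * A⁻¹ * (h * B)⁻¹ = A * h * A⁻¹ * (A * B) * A⁻¹ * B⁻¹ * h⁻¹ := by group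
      _ = _ := by rw [hcm]; group]

/-- **A normal subgroup with a non-central point contains a root group.** -/
theorem exists_full (b : D.P.Base) {H : Subgroup (Sp j K ⟶ G)} [H.Normal] {g : Sp j K ⟶ G} (hg : g ∈ H)
    (hgC : g ∉ Cent D j K) : ∃ c, ∀ y : K, gp j y ≫ D.u c ∈ H := by
  classical
  haveI : ∀ c, IsMonHom (D.u c) := fun c => (D.rootHom c).1
  haveI := isMonHom_i (D := D)
  haveI : Finite D.idx := Finite.of_fintype _
  choose nr hnr using D.refl
  have hn : ∀ a, ActsBy (nr a) a := fun a => actsBy_of_refl (hnr a)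
  obtain ⟨lv, hF⟩ := exists_filt_pos (D := D) b
  obtain ⟨n, eneg, hneg⟩ := exists_enum (D := D) (RedSub.negRoots D.P b)
  obtain ⟨m, epos, hpos⟩ := exists_enum (D := D) (RedSub.posRoots D.P b)
  obtain ⟨l, p, hp, q, hq, rfl⟩ := exists_bruhat b b hF hn (lv := lv) g
  have hh : q * (p * wpt j K nr l * q) * q⁻¹ ∈ H := Subgroup.Normal.conj_mem ‹_› _ hg q
  obtain ⟨χ₁, u₁, hu₁, e₁⟩ := borelPts_mul hq hp
  have hh' : q * (p * wpt j K nr l * q) * q⁻¹ = (tpt D j χ₁ ≫ D.i) * u₁ * wpt j K nr l := by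
    rw [← e₁]; group
  rw [hh'] at hh
  by_cases hl : RedSub.wordPerm D.P l = 1
  · obtain ⟨lam, hl', hlpr⟩ := exists_lam_prim b
    obtain ⟨τ, hτ⟩ := torus_of_fixed hneg hpos hl' hlpr (wpt j K nr l) fun C' _ _ f' u => by
      rw [wpt_comp, conjT, mul_inv_eq_iff_eq_mul]
      have h2 := wpt_tpt (j := j) (C := C') hn l (unitChar lam u)
      rw [wordChar_eq_of_perm (D := D) b (l' := []) (by rw [hl]; simp [RedSub.wordPerm])] at h2
      exact h2.symm
    rw [← hτ] at hh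
    let A := tpt D j χ₁ ≫ D.i
    let B := tpt D j τ ≫ D.i
    have e : A * u₁ * B = (tpt D j (χ₁ * τ) ≫ D.i) * conjT D j (τ.comp invMonoidHom) u₁ := by
      rw [conjT, tpt_mul, MonObj.mul_comp, tpt_inv, inv_inv]
      simp only [A, B]
      group
    refine exists_full_of_borel hF (σ := χ₁ * τ) (u := conjT D j (τ.comp invMonoidHom) u₁)
      (conjT_mem_gen _ hu₁) (e ▸ hh) ?_
    by_contra hcon
    rw [not_or, not_not] at hcon
    push Not at hcon
    have hz : (tpt D j χ₁ ≫ D.i) * u₁ * wpt j K nr l ∈ Cent D j K := by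
      refine ⟨χ₁ * τ, hcon.2, ?_⟩
      rw [← hτ]
      show A * u₁ * B = _
      rw [e, hcon.1, _root_.mul_one]
    obtain ⟨hcu, hct⟩ := cent_commute hz
    have hcq : ∀ r ∈ borelPts D b j K lv, (tpt D j χ₁ ≫ D.i) * u₁ * wpt j K nr l * r =
        r * ((tpt D j χ₁ ≫ D.i) * u₁ * wpt j K nr l) := by
      rintro _ ⟨χ, u, hu, rfl⟩
      obtain ⟨x, rfl⟩ := (mem_gen_iff D.rootHom hF (nodup_list hpos) (mem_list_iff hpos)).1 hu
      exact Commute.mul_right (hct χ) (Commute.list_prod_right _ _ fun r hr => by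
        obtain ⟨c, -, rfl⟩ := List.mem_map.1 hr
        exact hcu c _)
    refine hgC ?_
    have e2 : p * wpt j K nr l * q = (tpt D j χ₁ ≫ D.i) * u₁ * wpt j K nr l := by
      rw [← hh'] at hcq ⊢
      have h5 := hcq q hq
      calc p * wpt j K nr l * q = q⁻¹ * (q * (p * wpt j K nr l * q) * q⁻¹ * q) := by group
        _ = _ := by rw [h5]; group
    rw [e2]
    exact hz
  · obtain ⟨c, hc⟩ : ∃ c, (RedSub.wordPerm D.P l).symm c ≠ c := by
      by_contra! hall
      exact hl (Equiv.ext fun c => by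
        have := hall (RedSub.wordPerm D.P l c)
        rw [Equiv.symm_apply_apply] at this
        simpa using this.symm)
    obtain ⟨χ, hχ⟩ : ∃ χ : Multiplicative D.M →* K,
        χ (Multiplicative.ofAdd (D.P.root ((RedSub.wordPerm D.P l).symm c))) ≠ χ (Multiplicative.ofAdd (D.P.root c)) := by
      by_contra! hall
      exact hc (root_eq_of_chars b hall)
    have hk := mul_mem hh (Subgroup.Normal.conj_mem ‹_› _ (inv_mem hh) (tpt D j χ ≫ D.i))
    have hw := wpt_tpt (j := j) (C := K) hn l χ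
    set σ := wordChar l χ * χ.comp invMonoidHom with hσ
    set u' := conjT D j (wordChar l χ |>.comp invMonoidHom) u₁ * u₁⁻¹ with hu'
    have hu'm : u' ∈ gen j K D.u (RedSub.posRoots D.P b) lv 0 := mul_mem (conjT_mem_gen _ hu₁) (inv_mem hu₁)
    refine exists_full_of_borel hF (σ := σ) (u := conjT D j (χ₁ * χ) u') (conjT_mem_gen _ hu'm) ?_
      (Or.inr ⟨c, fun e => hχ ?_⟩)
    · convert hk using 1
      rw [hσ, hu', conjT, conjT, tpt_mul, tpt_mul, MonObj.mul_comp, MonObj.mul_comp, tpt_inv, tpt_inv, inv_inv]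
      have c1 := tpt_comm (j := j) (wordChar l χ) χ₁
      have c2 := tpt_comm (j := j) (wordChar l χ) χ
      have c3 := tpt_comm (j := j) χ χ₁
      generalize wpt j K nr l = W at hw ⊢
      generalize tpt D j χ₁ ≫ D.i = A at c1 c3 ⊢
      generalize tpt D j χ ≫ D.i = T at hw c2 c3 ⊢
      generalize tpt D j (wordChar l χ) ≫ D.i = T' at hw c1 c2 ⊢
      symm
      calc A * u₁ * W * (T * (A * u₁ * W)⁻¹ * T⁻¹) = A * u₁ * (W * T) * W⁻¹ * u₁⁻¹ * A⁻¹ * T⁻¹ := by group
        _ = A * u₁ * (T' * W) * W⁻¹ * u₁⁻¹ * A⁻¹ * T⁻¹ := by rw [hw]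
        _ = (A * T') * (T'⁻¹ * u₁ * T' * u₁⁻¹) * A⁻¹ * T⁻¹ := by group
        _ = T' * A * (T'⁻¹ * u₁ * T' * u₁⁻¹) * (T * A)⁻¹ := by rw [← c1]; group
        _ = _ := by
          have c4 : T⁻¹ * (A * T) = A := by rw [← c3]; group
          conv_lhs => rw [show T' * A = T' * (T⁻¹ * (A * T)) by rw [c4], c3]
          group
    · rw [← wordChar_root]
      have e' : wordChar l χ (Multiplicative.ofAdd (D.P.root c)) * χ (Multiplicative.ofAdd (D.P.root c))⁻¹ = 1 := e
      have h6 : χ (Multiplicative.ofAdd (D.P.root c))⁻¹ * χ (Multiplicative.ofAdd (D.P.root c)) = 1 := by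
        rw [← map_mul, inv_mul_cancel, map_one]
      calc wordChar l χ (Multiplicative.ofAdd (D.P.root c))
          = wordChar l χ (Multiplicative.ofAdd (D.P.root c)) *
            (χ (Multiplicative.ofAdd (D.P.root c))⁻¹ * χ (Multiplicative.ofAdd (D.P.root c))) := by
              rw [h6, _root_.mul_one]
        _ = _ := by rw [← _root_.mul_assoc, e', _root_.one_mul]

/-- The root groups in a normal subgroup form a set orthogonal to its complement. -/
theorem full_orth (b : D.P.Base) {H : Subgroup (Sp j K ⟶ G)} [H.Normal] {a d : D.idx}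
    (ha : ∀ y : K, gp j y ≫ D.u a ∈ H) (hd : D.P.pairing d a ≠ 0) (y : K) : gp j y ≫ D.u d ∈ H := by
  classical
  haveI : ∀ c, IsMonHom (D.u c) := fun c => (D.rootHom c).1
  haveI := isMonHom_i (D := D)
  haveI : Finite D.idx := Finite.of_fintype _
  obtain ⟨ν, hν⟩ := D.refl a
  have hn := actsBy_of_refl hν
  let a' := D.P.reflectionPerm a a
  have ha' : ∀ y : K, gp j y ≫ D.u a' ∈ H := fun y => by
    obtain ⟨w, hw⟩ := exists_conj_scale (j := j) b hn a
    have hy : y = algebraMap R K (w : R) * ((((Units.map (algebraMap R K).toMonoidHom w)⁻¹ : Kˣ) : K) * y) := by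
      rw [← _root_.mul_assoc, show algebraMap R K (w : R) = ((Units.map (algebraMap R K).toMonoidHom w : Kˣ) : K)
        from rfl, Units.mul_inv, _root_.one_mul]
    rw [hy, ← hw K]
    exact Subgroup.Normal.conj_mem ‹_› _ (ha _) _
  obtain ⟨τ, hτ⟩ : ∃ τ : Multiplicative D.M →* K, (toUnit (Sp j K) ≫ ν)⁻¹ * (tpt D j τ ≫ D.i) ∈ H := by
    obtain ⟨b₀, hb₀⟩ : ∃ b₀ : D.P.Base, a ∈ RedSub.posRoots D.P b₀ := by
      rcases pos_or_neg D.P b a with h | h
      · exact ⟨b, h⟩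
      · exact ⟨negBase D.P b, by rw [posRoots_negBase]; exact h⟩
    obtain ⟨x, y', z, χ, e⟩ := exists_refl_decomp (j := j) b₀ hb₀ hn
    have := congrArg (fun p => mor j (Algebra.ofId R K) ≫ p) e
    simp only [MonObj.comp_mul, ← Category.assoc, mor_gp, mor_tpt,
      toUnit_unique (mor j (Algebra.ofId R K) ≫ toUnit _) (toUnit _)] at this
    refine ⟨((Algebra.ofId R K : R →ₐ[R] K) : R →* K).comp χ, ?_⟩
    rw [this, ← QuotientGroup.eq]
    simp only [QuotientGroup.mk_mul, (QuotientGroup.eq_one_iff _).2 (ha _), _root_.one_mul, _root_.mul_one]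
    exact mul_eq_left.2 ((QuotientGroup.eq_one_iff _).2 (ha' _))
  obtain ⟨w, hw0, hw⟩ : ∃ w : K, w ≠ 0 ∧ w ^ (D.P.pairing d a).natAbs ≠ 1 := by
    obtain ⟨u, hu⟩ := exists_unit_zpow_ne_one (K := K) (k := ((D.P.pairing d a).natAbs : ℤ)) (by
      exact_mod_cast Int.natAbs_ne_zero.2 hd)
    exact ⟨u, u.ne_zero, fun e => hu (by rw [zpow_natCast, Units.val_pow_eq_pow_val]; exact e)⟩
  obtain ⟨χ, hχ⟩ := exists_char_eq (D := D) a hw0
  have hmem : tpt D j (reflChar a χ * χ.comp invMonoidHom) ≫ D.i ∈ H := by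
    rw [tpt_mul, MonObj.mul_comp, tpt_inv, ← hn R j K χ]
    rw [← QuotientGroup.eq_one_iff]
    have hτ' := (QuotientGroup.eq (s := H)).2 hτ
    simp only [QuotientGroup.mk_mul, QuotientGroup.mk_inv, hτ']
    rw [← QuotientGroup.mk_mul, ← QuotientGroup.mk_inv, ← QuotientGroup.mk_mul, ← QuotientGroup.mk_inv,
      ← QuotientGroup.mk_mul, tpt_comm τ χ]
    simp
  set σ := reflChar a χ * χ.comp invMonoidHom with hσdef
  have hσ : σ (Multiplicative.ofAdd (D.P.root d)) ≠ 1 := fun e => by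
    have e1 : χ (Multiplicative.ofAdd (D.P.root (D.P.reflectionPerm a d))) *
        χ (Multiplicative.ofAdd (D.P.root d))⁻¹ = 1 := by rw [← reflChar_root]; exact e
    rw [← map_mul, D.P.root_reflectionPerm, RootPairing.reflection_apply_root, ← ofAdd_neg, ← ofAdd_add,
      sub_add_eq_add_sub, add_neg_cancel, zero_sub, ← neg_smul] at e1
    obtain ⟨k, hk | hk⟩ := Int.eq_nat_or_neg (D.P.pairing d a)
    · rw [hk, Int.natAbs_natCast] at hw
      rw [hk, neg_smul, natCast_zsmul, ofAdd_neg, ofAdd_nsmul] at e1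
      have h7 : χ (Multiplicative.ofAdd (D.P.root a) ^ k) = 1 := by
        have h8 : χ (Multiplicative.ofAdd (D.P.root a) ^ k) * χ (Multiplicative.ofAdd (D.P.root a) ^ k)⁻¹ = 1 := by
          rw [← map_mul, mul_inv_cancel, map_one]
        rwa [e1, _root_.mul_one] at h8
      rw [map_pow, hχ] at h7
      exact hw h7
    · rw [hk, Int.natAbs_neg, Int.natAbs_natCast] at hw
      rw [hk, neg_neg, natCast_zsmul, ofAdd_nsmul, map_pow, hχ] at e1
      exact hw e1
  refine full_of_mem (x := σ (Multiplicative.ofAdd (D.P.root d)) - 1) (sub_ne_zero.2 hσ) ?_ y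
  rw [← _root_.mul_one (σ (Multiplicative.ofAdd (D.P.root d)) - 1), ← comm_root]
  have h2 := mul_mem hmem (Subgroup.Normal.conj_mem ‹_› _ (inv_mem hmem) (gp j (1 : K) ≫ D.u d))
  simpa only [_root_.mul_assoc] using h2

/-- In the indecomposable case a normal subgroup with a non-central point contains all root groups. -/
theorem all_full (b : D.P.Base) (hind : ∀ S : Set D.idx, (∀ a ∈ S, ∀ c ∉ S, D.P.pairing a c = 0) → (S = ∅ ∨ S = Set.univ))
    {H : Subgroup (Sp j K ⟶ G)} [H.Normal] {g : Sp j K ⟶ G} (hg : g ∈ H) (hgC : g ∉ Cent D j K) :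
    ∀ (c : D.idx) (y : K), gp j y ≫ D.u c ∈ H := by
  haveI : Finite D.idx := Finite.of_fintype _
  haveI := Chart.RootCombo.isCrystallographic D.P
  haveI : IsAddTorsionFree D.M := .of_isTorsionFree ℤ _
  obtain ⟨c₀, hc₀⟩ := exists_full b hg hgC
  rcases hind {c | ∀ y : K, gp j y ≫ D.u c ∈ H} (fun a ha c hc => by
    by_contra hne
    exact hc (full_orth b ha fun e => hne ((D.P.pairing_eq_zero_iff (i := a) (j := c)).2 e))) with h | h
  · exact absurd hc₀ (Set.eq_empty_iff_forall_notMem.1 h c₀)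
  · exact fun c => (Set.eq_univ_iff_forall.1 h) c

end Groth.L14.AlmostSimple
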