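import Groth.Agent.L14.AlmostSimple.Points
import Groth.Agent.L14.Isog.Data
import Groth.Agent.L25.Locus.Normalizer
import Groth.Agent.L25.Locus.FixedConn
import Groth.Agent.L01.Unip.Affine
import Groth.Agent.L08.Borel.Fixed

/-!
# No central torus in a semisimple split group; consequences on points
-/

set_option autoImplicit false
universe u

open CategoryTheory CategoryTheory.Limits AlgebraicGeometry MonoidalCategory CartesianMonoidalCategory MonObj
open Groth.L14.RankOne Groth.L25 Groth.L14.Chart Groth.L14.Chev Groth.L14.Chev.Cell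

set_option backward.isDefEq.respectTransparency.types false
set_option linter.style.haveILetI false
set_option linter.unusedSectionVars false
set_option maxHeartbeats 1000000

noncomputable section

namespace Groth.L14.AlmostSimple

theorem exists_base {S : Scheme.{u}} [Nonempty S] {G : Over S} [GrpObj G] (D : Red.SplitRed G) : Nonempty D.P.Base := by
  haveI : Finite D.idx := Finite.of_fintype _
  haveI : D.P.IsReduced := Groth.L14.Luna.SemiRank.isReduced_splitRed D
  obtain ⟨b, -⟩ := Groth.L14.Luna.SemiRank.exists_base_ge (P := D.P) (R' := ∅)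
    (fun i _ _ hi _ _ => absurd hi (Set.notMem_empty i)) (fun i hi => absurd hi (Set.notMem_empty i))
  exact ⟨b⟩

variable {S : Scheme.{u}} {G : Over S} [GrpObj G] {D : Red.SplitRed G}
  {R : Type u} [CommRing R] {j : Spec (CommRingCat.of R) ⟶ S} [IsOpenImmersion j]
  {K : Type u} [Field K] [IsAlgClosed K] [Algebra R K]

/-- A subgroup containing the torus points and the root points is everything. -/
theorem top_of_gens (b : D.P.Base) {H : Subgroup (Sp j K ⟶ G)}
    (hT : ∀ χ : Multiplicative D.M →* K, tpt D j χ ≫ D.i ∈ H)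
    (hu : ∀ (c : D.idx) (y : K), gp j y ≫ D.u c ∈ H) : H = ⊤ := by
  classical
  haveI : Finite D.idx := Finite.of_fintype _
  choose nr hnr using D.refl
  have hn : ∀ a, ActsBy (nr a) a := fun a => actsBy_of_refl (hnr a)
  obtain ⟨lv, hF⟩ := exists_filt_pos (D := D) b
  obtain ⟨m, epos, hpos⟩ := exists_enum (D := D) (RedSub.posRoots D.P b)
  obtain ⟨-, hν⟩ := mem_of_simple b H hT (fun a _ x => ⟨hu a x, hu _ x⟩)
  have hB : ∀ p ∈ borelPts D b j K lv, p ∈ H := by
    rintro _ ⟨χ, u, hu', rfl⟩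
    obtain ⟨x, rfl⟩ := (mem_gen_iff D.rootHom hF (nodup_list hpos) (mem_list_iff hpos)).1 hu'
    exact mul_mem (hT χ) (list_prod_mem fun r hr => by
      obtain ⟨c, -, rfl⟩ := List.mem_map.1 hr
      exact hu c _)
  refine eq_top_iff.2 fun g _ => ?_
  obtain ⟨l, p, hp, q, hq, rfl⟩ := exists_bruhat b b hF hn (lv := lv) g
  refine mul_mem (mul_mem (hB p hp) ?_) (hB q hq)
  induction l with
  | nil => rw [wpt_nil]; exact one_mem _
  | cons a w ih => rw [wpt_cons]; exact mul_mem (hν a _ (hn a)) (ih (Subgroup.mem_top _))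

/-- Points killed by all the roots commute with all points. -/
theorem cent_central (b : D.P.Base) {z : Sp j K ⟶ G} (hz : z ∈ Cent D j K) (g : Sp j K ⟶ G) : g * z = z * g := by
  have h : Subgroup.centralizer {z} = ⊤ := top_of_gens b
    (fun χ => Subgroup.mem_centralizer_singleton_iff.2 ((cent_commute hz).2 χ).symm)
    (fun c y => Subgroup.mem_centralizer_singleton_iff.2 ((cent_commute hz).1 c y).symm)
  have h2 : g ∈ Subgroup.centralizer {z} := h ▸ Subgroup.mem_top g
  exact Subgroup.mem_centralizer_singleton_iff.1 h2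

/-- A semisimple split group has no cocharacter killed by all the roots. -/
theorem eq_zero_of_killed (b : D.P.Base) (hss : Red.IsSemisimpleOver K (Red.bc (qK j K) G)) {f : D.M →+ ℤ}
    (hf : ∀ c, f (D.P.root c) = 0) : f = 0 := by
  classical
  by_contra hne
  obtain ⟨φ, hφs, hφ⟩ : ∃ φ : D.M →+ (Fin 1 → ℤ), Function.Surjective φ ∧ ∀ c, φ (D.P.root c) = 0 := by
    obtain ⟨d, hd'⟩ := Int.subgroup_cyclic f.range
    have hd : f.range = AddSubgroup.zmultiples d := hd'.trans (AddSubgroup.zmultiples_eq_closure d).symm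
    have hd0 : d ≠ 0 := fun e => hne (AddMonoidHom.ext fun m => by
      have : f m ∈ AddSubgroup.zmultiples d := hd ▸ ⟨m, rfl⟩
      simpa [e] using this)
    have hdiv : ∀ m, d ∣ f m := fun m =>
      Int.mem_zmultiples_iff.1 (hd ▸ (⟨m, rfl⟩ : f m ∈ f.range))
    refine ⟨AddMonoidHom.mk' (fun m _ => f m / d) (fun a c => funext fun _ => by
      show f (a + c) / d = f a / d + f c / d
      rw [map_add, Int.add_ediv_of_dvd_left (hdiv a)]), fun v => ?_, fun c => funext fun _ => ?_⟩
    · obtain ⟨m, hm⟩ : d ∈ f.range := hd ▸ AddSubgroup.mem_zmultiples d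
      refine ⟨v 0 • m, funext fun i => ?_⟩
      rw [Subsingleton.elim i 0]
      show f (v 0 • m) / d = v 0
      rw [map_zsmul, hm, smul_eq_mul, Int.mul_ediv_cancel _ hd0]
    · show f (D.P.root c) / d = 0
      rw [hf c, Int.zero_ediv]
  haveI := reductive_affine D
  haveI := reductive_smooth D
  haveI := isMonHom_i (D := D)
  haveI := D.maximalTorus.2.1
  let q := qK j K
  let T' := Red.DS S (Fin 1 → ℤ)
  let emb : T' ⟶ G := Red.DSmap S φ ≫ D.split.inv.hom.hom ≫ D.i
  haveI : IsMonHom emb := inferInstanceAs (IsMonHom (Red.DSmap S φ ≫ D.split.inv.hom.hom ≫ D.i))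
  haveI : Mono emb := by
    haveI : Mono (Red.DSmap S φ) := SplitSub.mono_DSmap φ hφs
    haveI : IsIso D.split.inv.hom.hom := ⟨D.split.hom.hom.hom, split_inv_hom, split_hom_inv⟩
    exact mono_comp _ _
  let embK : Red.bc q T' ⟶ Red.bc q G := (Over.pullback q).map emb
  haveI : IsMonHom embK := isMonHom_bcMap q emb
  haveI : Mono embK := mono_bcMap q emb
  have hT : Red.IsTorus (Red.bc q T') := Locus.isTorus_bc (Groth.L01.Unip.isTorus_DS S 1) q
  haveI : IsAffineHom (Red.bc q G).hom := MorphismProperty.pullback_snd _ _ ‹IsAffineHom G.hom›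
  haveI : Smooth (Red.bc q G).hom := MorphismProperty.pullback_snd _ _ ‹Smooth G.hom›
  haveI : IsSeparated (Red.bc q G).hom := inferInstance
  haveI hsm : Smooth (Red.bc q T').hom := (Locus.smooth_connected_torus hT).1
  haveI : IsClosedImmersion embK.left :=
    Locus.isClosedImmersion_of_mono (Locus.locally_of_multTypeFT (by
      obtain ⟨S', f', h1, h2, h3, h4⟩ := hT
      exact ⟨S', f', h1, h2, h3, fun s' => (h4 s').imp fun U ⟨hU, r, e⟩ =>
        ⟨hU, Fin r → ℤ, inferInstance, Module.Finite.iff_addGroup_fg.1 inferInstance, e⟩⟩)) embK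
  have hcent : ∀ z : Sp j K ⟶ T', z ≫ emb ∈ Cent D j K := fun z => by
    obtain ⟨χ, hχ⟩ := exists_tpt (D := D) j (z ≫ Red.DSmap S φ ≫ D.split.inv.hom.hom)
    refine ⟨χ, fun c => ?_, by rw [hχ]; simp only [emb, Category.assoc]⟩
    have h1 := congrArg (fun s => DSPts.char (s ≫ D.split.hom.hom.hom) (Multiplicative.ofAdd (D.P.root c))) hχ
    simp only [tpt_hom, DSPts.char_pt, Category.assoc] at h1
    rw [split_inv_hom, Category.comp_id, SplitSub.char_DSmap] at h1
    refine (ConcreteCategory.bijective_of_isIso (Scheme.ΓSpecIso (CommRingCat.of K)).inv).1 ?_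
    rw [map_one]
    refine Eq.trans h1 ?_
    show DSPts.char z (Multiplicative.ofAdd (φ (D.P.root c))) = 1
    rw [hφ c, ofAdd_zero, map_one]
  have hnorm : AlgGrp.IsNormalHom embK := by
    intro X g n
    refine ⟨n, ?_⟩
    suffices h : snd (Red.bc q T') (Red.bc q G) * (fst _ _ ≫ embK) =
        (fst _ _ ≫ embK) * snd (Red.bc q T') (Red.bc q G) by
      have h2 := congrArg (fun p => lift n g ≫ p) h
      simp only [MonObj.comp_mul, lift_snd, lift_fst_assoc] at h2
      rw [mul_inv_eq_iff_eq_mul]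
      exact h2
    haveI : Smooth (Red.bc q T' ⊗ Red.bc q G).hom := by
      rw [Over.tensorObj_hom]; infer_instance
    haveI : IsReduced (Red.bc q T' ⊗ Red.bc q G).left :=
      Groth.Agent.AV.isReduced_of_smooth_field (Red.bc q T' ⊗ Red.bc q G).hom
    refine Groth.L08.Borel.hom_ext_pts _ _ fun t => ?_
    refine (ptBC j K).injective ?_
    show ptHom j K G _ = ptHom j K G _
    rw [MonObj.comp_mul, MonObj.comp_mul, map_mul, map_mul]
    show ptHom j K G (t ≫ snd _ _) * ptBC j K (t ≫ fst _ _ ≫ embK) = ptBC j K (t ≫ fst _ _ ≫ embK) * _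
    rw [← Category.assoc t, ptBC_comp]
    exact cent_central b (hcent _) _
  have htriv : Red.IsTrivialGrp (Red.bc q T') := hss.2 (Red.bc q T') embK inferInstance hnorm hT
  haveI : IsIso (Red.bc q T').hom := htriv
  obtain ⟨w, hw⟩ := Infinite.exists_notMem_finset ({0, 1} : Finset K)
  simp only [Finset.mem_insert, Finset.mem_singleton, not_or] at hw
  let χ : Multiplicative (Fin 1 → ℤ) →* Γ((Sp j K).left, ⊤) :=
    ((Scheme.ΓSpecIso (CommRingCat.of K)).inv.hom.toMonoidHom.comp (Units.coeHom K)).comp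
      ((zpowersHom Kˣ (Units.mk0 w hw.1)).comp (Pi.evalAddMonoidHom (fun _ : Fin 1 => ℤ) 0).toMultiplicative)
  have hx : DSPts.pt χ = (1 : Sp j K ⟶ T') := by
    refine (ptBC j K).symm.injective ?_
    haveI : Mono (Red.bc q T').hom := inferInstance
    exact Over.OverMorphism.ext ((cancel_mono (Red.bc q T').hom).1 (by rw [Over.w, Over.w]))
  have h3 := DFunLike.congr_fun (congrArg DSPts.char hx) (Multiplicative.ofAdd fun _ => (1 : ℤ))
  rw [DSPts.char_pt, DSPts.char_one] at h3
  have h4 : (Scheme.ΓSpecIso (CommRingCat.of K)).inv w = 1 := by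
    refine Eq.trans ?_ h3
    simp [χ, AddMonoidHom.toMultiplicative]
  exact hw.2 ((ConcreteCategory.bijective_of_isIso (Scheme.ΓSpecIso (CommRingCat.of K)).inv).1
    (h4.trans (map_one _).symm))

/-- If the roots kill no cocharacter, every element of the lattices has a non-zero multiple in the span. -/
theorem exists_mul_mem (hker : ∀ f : D.M →+ ℤ, (∀ c, f (D.P.root c) = 0) → f = 0) :
    (∀ f : Module.Dual ℤ D.M, ∃ n : ℤ, n ≠ 0 ∧ n • f ∈ Submodule.span ℤ (Set.range D.P.coroot)) ∧
      ∀ m : D.M, ∃ n : ℤ, n ≠ 0 ∧ n • m ∈ Submodule.span ℤ (Set.range D.P.root) := by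
  haveI : Finite D.idx := Finite.of_fintype _
  haveI := Chart.RootCombo.isCrystallographic D.P
  haveI : CharZero ℤ := inferInstance
  have hle : Module.finrank ℤ D.M ≤ Module.finrank ℤ ↥(D.P.rootSpan ℤ) := by
    have hinj : Function.Injective (D.P.rootSpan ℤ).subtype.dualMap := by
      refine (injective_iff_map_eq_zero _).2 fun f hf => ?_
      have := hker f.toAddMonoidHom fun c =>
        DFunLike.congr_fun hf ⟨D.P.root c, Submodule.subset_span ⟨c, rfl⟩⟩
      exact LinearMap.ext fun m => DFunLike.congr_fun this m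
    have h := LinearMap.finrank_le_finrank_of_injective hinj
    rwa [← (Module.Free.chooseBasis ℤ D.M).toDualEquiv.finrank_eq,
      ← (Module.Free.chooseBasis ℤ ↥(D.P.rootSpan ℤ)).toDualEquiv.finrank_eq] at h
  have hge : Module.finrank ℤ ↥(D.P.rootSpan ℤ) ≤ Module.finrank ℤ D.M := Submodule.finrank_le _
  have key : ∀ {A V : Type} [CommRing A] [IsDomain A] [IsPrincipalIdealRing A] [AddCommGroup V] [Module A V]
      [Module.Finite A V] (N : Submodule A V),
      Module.finrank A N = Module.finrank A V → ∀ v : V, ∃ n : A, n ≠ 0 ∧ n • v ∈ N := by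
    intro A V _ _ _ _ _ _ N hN v
    have h1 := Submodule.finrank_quotient_add_finrank N
    have h2 : Module.IsTorsion A (V ⧸ N) := Module.finrank_eq_zero_iff_isTorsion.1 (by omega)
    obtain ⟨⟨n, hn⟩, h⟩ := @h2 (Submodule.Quotient.mk v)
    exact ⟨n, nonZeroDivisors.ne_zero hn, (Submodule.Quotient.mk_eq_zero N).1
      ((Submodule.Quotient.mk_smul N n v).trans h)⟩
  refine ⟨key _ ?_, key _ (le_antisymm hge hle)⟩
  show Module.finrank ℤ ↥(D.P.corootSpan ℤ) = _
  rw [D.P.finrank_corootSpan_eq', ← (Module.Free.chooseBasis ℤ D.M).toDualEquiv.finrank_eq]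
  omega

/-- The root groups generate, when the roots kill no cocharacter. -/
theorem top_of_roots (b : D.P.Base) (hker : ∀ f : D.M →+ ℤ, (∀ c, f (D.P.root c) = 0) → f = 0)
    {H : Subgroup (Sp j K ⟶ G)} [H.Normal] (hu : ∀ (c : D.idx) (y : K), gp j y ≫ D.u c ∈ H) : H = ⊤ := by
  classical
  haveI := isMonHom_i (D := D)
  haveI : Finite D.idx := Finite.of_fintype _
  let U : (D.M →+ ℤ) → Kˣ → (Multiplicative D.M →* K) := fun f w =>
    (Units.coeHom K).comp ((zpowersHom Kˣ w).comp f.toMultiplicative)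
  have hU : ∀ f w (m : D.M), U f w (Multiplicative.ofAdd m) = ((w ^ f m : Kˣ) : K) := fun f w m => rfl
  let P : Submodule ℤ (Module.Dual ℤ D.M) :=
    AddSubgroup.toIntSubmodule
    { carrier := {f | ∀ w : Kˣ, tpt D j (U f.toAddMonoidHom w) ≫ D.i ∈ H}
      zero_mem' := fun w => by
        rw [show U (0 : Module.Dual ℤ D.M).toAddMonoidHom w = 1 from MonoidHom.ext fun m => by
          show ((w ^ (0 : ℤ) : Kˣ) : K) = 1
          rw [zpow_zero]; rfl, tpt_one, MonObj.one_comp]
        exact one_mem _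
      add_mem' := fun {f g} hf hg w => by
        rw [show U (f + g).toAddMonoidHom w = U f.toAddMonoidHom w * U g.toAddMonoidHom w from MonoidHom.ext fun m => by
          show ((w ^ (f m.toAdd + g m.toAdd) : Kˣ) : K) = ((w ^ f m.toAdd : Kˣ) : K) * ((w ^ g m.toAdd : Kˣ) : K)
          rw [zpow_add, Units.val_mul], tpt_mul, MonObj.mul_comp]
        exact mul_mem (hf w) (hg w)
      neg_mem' := fun {f} hf w => by
        rw [show U (-f).toAddMonoidHom w = U f.toAddMonoidHom w⁻¹ from MonoidHom.ext fun m => by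
          show ((w ^ (-f m.toAdd) : Kˣ) : K) = ((w⁻¹ ^ f m.toAdd : Kˣ) : K)
          rw [inv_zpow, zpow_neg]]
        exact hf w⁻¹ }
  have hco : Submodule.span ℤ (Set.range D.P.coroot) ≤ P := by
    rw [Submodule.span_le]
    rintro _ ⟨a, rfl⟩ w
    obtain ⟨ν, hν⟩ := D.refl a
    have hn := actsBy_of_refl hν
    obtain ⟨b₀, hb₀⟩ : ∃ b₀ : D.P.Base, a ∈ RedSub.posRoots D.P b₀ := by
      rcases pos_or_neg D.P b a with h | h
      · exact ⟨b, h⟩
      · exact ⟨negBase D.P b, by rw [posRoots_negBase]; exact h⟩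
    obtain ⟨τ, hτ⟩ : ∃ τ : Multiplicative D.M →* K, (toUnit (Sp j K) ≫ ν)⁻¹ * (tpt D j τ ≫ D.i) ∈ H := by
      obtain ⟨x, y', z, χ, e⟩ := exists_refl_decomp (j := j) b₀ hb₀ hn
      have := congrArg (fun p => mor j (Algebra.ofId R K) ≫ p) e
      simp only [MonObj.comp_mul, ← Category.assoc, mor_gp, mor_tpt,
        toUnit_unique (mor j (Algebra.ofId R K) ≫ toUnit _) (toUnit _)] at this
      refine ⟨((Algebra.ofId R K : R →ₐ[R] K) : R →* K).comp χ, ?_⟩
      rw [this, ← QuotientGroup.eq]
      simp only [QuotientGroup.mk_mul, (QuotientGroup.eq_one_iff _).2 (hu _ _), _root_.one_mul, _root_.mul_one]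
    obtain ⟨ψ, hψ⟩ := exists_char_eq (D := D) a (w := ((w⁻¹ : Kˣ) : K)) (Units.ne_zero _)
    have hmem : tpt D j (reflChar a ψ * ψ.comp invMonoidHom) ≫ D.i ∈ H := by
      rw [tpt_mul, MonObj.mul_comp, tpt_inv, ← hn R j K ψ]
      rw [← QuotientGroup.eq_one_iff]
      have hτ' := (QuotientGroup.eq (s := H)).2 hτ
      simp only [QuotientGroup.mk_mul, QuotientGroup.mk_inv, hτ']
      rw [← QuotientGroup.mk_mul, ← QuotientGroup.mk_inv, ← QuotientGroup.mk_mul, ← QuotientGroup.mk_inv,
        ← QuotientGroup.mk_mul, tpt_comm τ ψ]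
      simp
    rw [show U (D.P.coroot a).toAddMonoidHom w = reflChar a ψ * ψ.comp invMonoidHom from ?_]
    · exact hmem
    refine MonoidHom.ext fun m => ?_
    obtain ⟨m, rfl⟩ := Multiplicative.ofAdd.surjective m
    rw [hU]
    show _ = ψ (Multiplicative.ofAdd (D.P.reflection a m)) * ψ (Multiplicative.ofAdd m)⁻¹
    rw [← map_mul, show D.P.reflection a m = m - D.P.coroot a m • D.P.root a by
      rw [RootPairing.reflection_apply]
      congr 2
      show D.P.toLinearMap m (D.P.coroot a) = _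
      rw [D.pairing_eq]
      rfl, ← ofAdd_neg, ← ofAdd_add, sub_add_eq_add_sub, add_neg_cancel,
      zero_sub, ← neg_smul]
    have hz : ∀ z : ℤ, ψ (Multiplicative.ofAdd (z • D.P.root a)) = (((w⁻¹) ^ z : Kˣ) : K) := fun z => by
      have h5 : (ψ.toHomUnits (Multiplicative.ofAdd (D.P.root a))) = w⁻¹ := Units.ext hψ
      rw [← h5, ← map_zpow, MonoidHom.coe_toHomUnits, ← ofAdd_zsmul]
    rw [hz, inv_zpow, zpow_neg, inv_inv]
    rfl
  obtain ⟨hdual, -⟩ := exists_mul_mem hker
  have hall : ∀ f : Module.Dual ℤ D.M, f ∈ P := fun f w => by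
    obtain ⟨n, hn, hmem⟩ := hdual f
    obtain ⟨v, hv⟩ : ∃ v : Kˣ, v ^ n = w := by
      obtain ⟨z, hz⟩ := IsAlgClosed.exists_pow_nat_eq (w : K) (Int.natAbs_pos.2 hn)
      have hz0 : z ≠ 0 := fun e => w.ne_zero (by rw [← hz, e, zero_pow (Int.natAbs_pos.2 hn).ne'])
      rcases Int.natAbs_eq n with e | e
      · exact ⟨Units.mk0 z hz0, Units.ext (by rw [e, zpow_natCast, Units.val_pow_eq_pow_val]; exact hz)⟩
      · exact ⟨(Units.mk0 z hz0)⁻¹, Units.ext (by
          rw [e, zpow_neg, inv_zpow, inv_inv, zpow_natCast, Units.val_pow_eq_pow_val]; exact hz)⟩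
    have := hco hmem v
    rwa [show U (n • f).toAddMonoidHom v = U f.toAddMonoidHom w from MonoidHom.ext fun m => by
      show ((v ^ (n • f m.toAdd) : Kˣ) : K) = ((w ^ f m.toAdd : Kˣ) : K)
      rw [smul_eq_mul, zpow_mul, hv]] at this
  refine top_of_gens b (fun χ => ?_) hu
  let B := Module.Free.chooseBasis ℤ D.M
  have hχ : χ = ∏ i, U (B.coord i).toAddMonoidHom (χ.toHomUnits (Multiplicative.ofAdd (B i))) := by
    refine MonoidHom.ext fun m => ?_
    obtain ⟨m, rfl⟩ := Multiplicative.ofAdd.surjective m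
    rw [MonoidHom.finsetProd_apply]
    simp only [hU, ← map_zpow, ← ofAdd_zsmul]
    rw [← Units.coe_prod, ← map_prod, ← ofAdd_sum]
    show _ = χ (Multiplicative.ofAdd (∑ i, B.coord i m • B i))
    congr 2
    exact (B.sum_repr m).symm
  rw [hχ]
  refine Finset.prod_induction (fun i => U (B.coord i).toAddMonoidHom (χ.toHomUnits (Multiplicative.ofAdd (B i))))
    (fun σ => tpt D j σ ≫ D.i ∈ H) (fun σ τ hσ hτ => ?_) ?_ fun i _ => hall (B.coord i) _
  · rw [tpt_mul, MonObj.mul_comp]; exact mul_mem hσ hτ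
  · rw [tpt_one, MonObj.one_comp]; exact one_mem _

/-- The points killed by all roots are finite, when the roots kill no cocharacter. -/
theorem finite_cent (hker : ∀ f : D.M →+ ℤ, (∀ c, f (D.P.root c) = 0) → f = 0) : (Cent D j K).Finite := by
  classical
  obtain ⟨-, hroot⟩ := exists_mul_mem hker
  let B := Module.Free.chooseBasis ℤ D.M
  choose n hn hmem using fun i => hroot (B i)
  let F : (Multiplicative D.M →* K) → (Module.Free.ChooseBasisIndex ℤ D.M → K) := fun χ i => χ (Multiplicative.ofAdd (B i))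
  let C : Set (Multiplicative D.M →* K) := {χ | ∀ c, χ (Multiplicative.ofAdd (D.P.root c)) = 1}
  refine Set.Finite.subset (Set.Finite.image (fun χ => tpt D j χ ≫ D.i) (s := C) ?_)
    fun g ⟨χ, hχ, e⟩ => ⟨χ, hχ, e.symm⟩
  refine Set.Finite.of_finite_image (f := F) ?_ ?_
  · refine Set.Finite.subset (Set.Finite.pi (t := fun i => {x : K | x ^ (n i).natAbs = 1})
      fun i => (Polynomial.finite_setOfPred_isRoot (p := Polynomial.X ^ (n i).natAbs - 1)
        (Polynomial.X_pow_sub_C_ne_zero (Int.natAbs_pos.2 (hn i)) 1)).subset fun x hx => by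
          simpa [Polynomial.IsRoot, sub_eq_zero] using hx) ?_
    rintro _ ⟨χ, hχ, rfl⟩ i -
    have h1 : ∀ m ∈ Submodule.span ℤ (Set.range D.P.root), χ.toHomUnits (Multiplicative.ofAdd m) = 1 := by
      intro m hm
      induction hm using Submodule.span_induction with
      | mem x hx => obtain ⟨c, rfl⟩ := hx; exact Units.ext (hχ c)
      | zero => rw [ofAdd_zero, map_one]
      | add x y _ _ hx hy => rw [ofAdd_add, map_mul, hx, hy, _root_.mul_one]
      | smul a x _ hx => rw [ofAdd_zsmul, map_zpow, hx, one_zpow]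
    have h2 := h1 _ (hmem i)
    rw [ofAdd_zsmul, map_zpow] at h2
    show χ (Multiplicative.ofAdd (B i)) ^ (n i).natAbs = 1
    have h3 : χ.toHomUnits (Multiplicative.ofAdd (B i)) ^ (n i).natAbs = 1 := by
      rw [← zpow_natCast, Int.natCast_natAbs]
      rcases abs_choice (n i) with e | e <;> rw [e]
      · exact h2
      · rw [zpow_neg, h2, inv_one]
    exact congrArg Units.val h3
  · intro χ _ ψ _ e
    have h : χ.toHomUnits = ψ.toHomUnits := by
      refine MonoidHom.ext fun m => ?_
      obtain ⟨m, rfl⟩ := Multiplicative.ofAdd.surjective m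
      induction B.mem_span m using Submodule.span_induction with
      | mem x hx => obtain ⟨i, rfl⟩ := hx; exact Units.ext (congrFun e i)
      | zero => rw [ofAdd_zero, map_one, map_one]
      | add x y _ _ hx hy => rw [ofAdd_add, map_mul, map_mul, hx, hy]
      | smul a x _ hx => rw [ofAdd_zsmul, map_zpow, map_zpow, hx]
    exact MonoidHom.ext fun m => congrArg Units.val (DFunLike.congr_fun h m)

end Groth.L14.AlmostSimple
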